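import Groth.Prelude.Def_Koszul
import Groth.Prelude.Def_DRing2
import Mathlib.Algebra.Homology.Monoidal
import Mathlib.Algebra.Category.ModuleCat.Monoidal.Basic
import Mathlib.CategoryTheory.Monoidal.Preadditive

/-! Tensoring a mapping cone on the right. -/

set_option autoImplicit false

universe u

open CategoryTheory Limits MonoidalCategory

namespace Groth.KoszulTens

open HomologicalComplex CochainComplex CochainComplex.HomComplex CochainComplex.mappingCone

variable {A : Type u} [CommRing A] {K L : CochainComplex (ModuleCat.{u} A) ℤ} (φ : K ⟶ L)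
  (G : CochainComplex (ModuleCat.{u} A) ℤ)

noncomputable def α : Cochain (HomologicalComplex.tensorObj K G)
    (HomologicalComplex.tensorObj (CochainComplex.mappingCone φ) G) (-1) :=
  Cochain.mk fun p q hpq => mapBifunctorDesc fun i j h =>
    (inl φ).v i (i - 1) (by lia) ▷ G.X j ≫
      ιTensorObj (CochainComplex.mappingCone φ) G (i - 1) j q
        (by have h' : i + j = p := h; lia)

lemma ι_α (p q : ℤ) (hpq : p + (-1) = q) (i j : ℤ) (h : i + j = p) :
    ιTensorObj K G i j p h ≫ (α φ G).v p q hpq =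
      (inl φ).v i (i - 1) (by lia) ▷ G.X j ≫
        ιTensorObj (CochainComplex.mappingCone φ) G (i - 1) j q (by lia) := by
  simp only [α, Cochain.mk_v]
  exact ι_mapBifunctorDesc _ i j h

lemma ι_tensorHom {K' L' : CochainComplex (ModuleCat.{u} A) ℤ} (ψ : K' ⟶ L') (i j p : ℤ)
    (h : i + j = p) :
    ιTensorObj K' G i j p h ≫ (HomologicalComplex.tensorHom ψ (𝟙 G)).f p =
      ψ.f i ▷ G.X j ≫ ιTensorObj L' G i j p h := by
  refine (ι_mapBifunctorMap ψ (𝟙 G) _ _ i j p h).trans ?_
  simp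

lemma ι_d {K' : CochainComplex (ModuleCat.{u} A) ℤ} (i j p q : ℤ) (h : i + j = p) (hq : p + 1 = q) :
    ιTensorObj K' G i j p h ≫ (HomologicalComplex.tensorObj K' G).d p q =
      K'.d i (i + 1) ▷ G.X j ≫ ιTensorObj K' G (i + 1) j q (by lia) +
      i.negOnePow • (K'.X i ◁ G.d j (j + 1) ≫ ιTensorObj K' G i (j + 1) q (by lia)) := by
  rw [mapBifunctor.d_eq, Preadditive.comp_add, mapBifunctor.ι_D₁, mapBifunctor.ι_D₂,
    mapBifunctor.d₁_eq K' G (curriedTensor (ModuleCat.{u} A)) (ComplexShape.up ℤ)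
      (show (ComplexShape.up ℤ).Rel i (i + 1) from rfl) j q (show i + 1 + j = q by lia),
    mapBifunctor.d₂_eq K' G (curriedTensor (ModuleCat.{u} A)) (ComplexShape.up ℤ) i
      (show (ComplexShape.up ℤ).Rel j (j + 1) from rfl) q (show i + (j + 1) = q by lia)]
  exact congrArg₂ (· + ·) (one_smul ℤˣ _) rfl

lemma δ_α : δ (-1) 0 (α φ G) = Cochain.ofHom
    (HomologicalComplex.tensorHom φ (𝟙 G) ≫ HomologicalComplex.tensorHom (inr φ) (𝟙 G)) := by
  ext p : 1
  rw [δ_v (-1) 0 (neg_add_cancel 1) _ p p (add_zero p) (p - 1) (p + 1) rfl rfl, Cochain.ofHom_v]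
  simp only [Int.negOnePow_zero, one_smul, HomologicalComplex.comp_f]
  refine mapBifunctor.hom_ext fun i j h => ?_
  have h' : i + j = p := h
  change ιTensorObj K G i j p h' ≫ _ = ιTensorObj K G i j p h' ≫ _
  rw [Preadditive.comp_add, reassoc_of% ι_α φ G p (p - 1) (by lia) i j h',
    ι_d G (i - 1) j (p - 1) p (by lia) (by lia), reassoc_of% ι_d G i j p (p + 1) h' rfl,
    reassoc_of% ι_tensorHom G φ i j p h', ι_tensorHom G (inr φ) i j p h']
  simp only [Preadditive.comp_add, Preadditive.add_comp, Linear.units_smul_comp,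
    Linear.comp_units_smul, Category.assoc]
  rw [ι_α φ G (p + 1) p (by lia) (i + 1) j (by lia), ι_α φ G (p + 1) p (by lia) i (j + 1) (by lia)]
  rw [← comp_whiskerRight_assoc, ← comp_whiskerRight_assoc, ← comp_whiskerRight_assoc]
  have e1 : (i - 1) + 1 = i := by lia
  have hd : (inl φ).v i (i - 1) (by lia) ≫ (CochainComplex.mappingCone φ).d (i - 1) i =
      φ.f i ≫ (inr φ).f i - K.d i (i + 1) ≫ (inl φ).v (i + 1) i (by lia) :=
    inl_v_d φ i (i - 1) (i + 1) (by lia) (by lia)
  have key : ∀ (a b : ℤ) (ha : a = i) (hb : b = i)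
      (h1 : (i : ℤ) + (-1) = i - 1) (h2 : i + 1 + (-1) = b),
      ((inl φ).v i (i - 1) h1 ≫ (CochainComplex.mappingCone φ).d (i - 1) a) ▷ G.X j ≫
          ιTensorObj (CochainComplex.mappingCone φ) G a j p (by lia) +
        (K.d i (i + 1) ≫ (inl φ).v (i + 1) b h2) ▷ G.X j ≫
          ιTensorObj (CochainComplex.mappingCone φ) G b j p (by lia) =
      (φ.f i ≫ (inr φ).f i) ▷ G.X j ≫ ιTensorObj (CochainComplex.mappingCone φ) G i j p h' := by
    intro a b ha hb h1 h2
    subst a b
    rw [hd, ← Preadditive.add_comp, ← MonoidalPreadditive.add_whiskerRight]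
    simp
  have hs : (i - 1).negOnePow = - i.negOnePow := by
    rw [Int.negOnePow_sub, Int.negOnePow_one, mul_neg, mul_one]
  rw [hs, Units.neg_smul, whisker_exchange_assoc]
  rw [← key (i - 1 + 1) (i + 1 - 1) (by lia) (by lia) (by lia) (by lia)]
  abel

/-- The comparison map `Cone(φ ⊗ G) ⟶ Cone(φ) ⊗ G`. -/
noncomputable def hom : CochainComplex.mappingCone (HomologicalComplex.tensorHom φ (𝟙 G)) ⟶
    HomologicalComplex.tensorObj (CochainComplex.mappingCone φ) G :=
  CochainComplex.mappingCone.desc _ (α φ G) (HomologicalComplex.tensorHom (inr φ) (𝟙 G)) (δ_α φ G)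

noncomputable def invX (n : ℤ) :
    (HomologicalComplex.tensorObj (CochainComplex.mappingCone φ) G).X n ⟶
      (CochainComplex.mappingCone (HomologicalComplex.tensorHom φ (𝟙 G))).X n :=
  mapBifunctorDesc fun i j h =>
    (fst φ).1.v i (i + 1) rfl ▷ G.X j ≫
      ιTensorObj K G (i + 1) j (n + 1) (by have h' : i + j = n := h; lia) ≫
        (inl (HomologicalComplex.tensorHom φ (𝟙 G))).v (n + 1) n (by lia) +
    (snd φ).v i i (add_zero i) ▷ G.X j ≫ ιTensorObj L G i j n h ≫
      (inr (HomologicalComplex.tensorHom φ (𝟙 G))).f n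

lemma ι_invX (n i j : ℤ) (h : i + j = n) :
    ιTensorObj (CochainComplex.mappingCone φ) G i j n h ≫ invX φ G n =
    (fst φ).1.v i (i + 1) rfl ▷ G.X j ≫ ιTensorObj K G (i + 1) j (n + 1) (by lia) ≫
        (inl (HomologicalComplex.tensorHom φ (𝟙 G))).v (n + 1) n (by lia) +
    (snd φ).v i i (add_zero i) ▷ G.X j ≫ ιTensorObj L G i j n h ≫
      (inr (HomologicalComplex.tensorHom φ (𝟙 G))).f n :=
  ι_mapBifunctorDesc _ i j h

lemma hom_inv (n : ℤ) : (hom φ G).f n ≫ invX φ G n = 𝟙 _ := by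
  refine ext_from _ (n + 1) n rfl ?_ ?_
  · rw [hom, reassoc_of% inl_v_desc_f (HomologicalComplex.tensorHom φ (𝟙 G)) (α φ G)
      (HomologicalComplex.tensorHom (inr φ) (𝟙 G)) (δ_α φ G) (n + 1) n (by lia), Category.comp_id]
    refine mapBifunctor.hom_ext fun i j h => ?_
    have h' : i + j = n + 1 := h
    change ιTensorObj K G i j (n + 1) h' ≫ _ = ιTensorObj K G i j (n + 1) h' ≫ _
    rw [reassoc_of% ι_α φ G (n + 1) n (by lia) i j h', ι_invX φ G n (i - 1) j (by lia),
      Preadditive.comp_add, ← comp_whiskerRight_assoc, ← comp_whiskerRight_assoc]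
    have key : ∀ (a : ℤ) (ha : a = i) (h1 : (i : ℤ) + (-1) = i - 1) (h2 : i - 1 + 1 = a),
        ((inl φ).v i (i - 1) h1 ≫ (fst φ).1.v (i - 1) a h2) ▷ G.X j ≫
          ιTensorObj K G a j (n + 1) (by lia) = ιTensorObj K G i j (n + 1) h' := by
      intro a ha h1 h2
      subst a
      simp
    rw [reassoc_of% key (i - 1 + 1) (by lia) (by lia) rfl]
    simp
  · rw [hom, reassoc_of% inr_f_desc_f (HomologicalComplex.tensorHom φ (𝟙 G)) (α φ G)
      (HomologicalComplex.tensorHom (inr φ) (𝟙 G)) (δ_α φ G) n, Category.comp_id]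
    refine mapBifunctor.hom_ext fun i j h => ?_
    have h' : i + j = n := h
    change ιTensorObj L G i j n h' ≫ _ = ιTensorObj L G i j n h' ≫ _
    rw [reassoc_of% ι_tensorHom G (inr φ) i j n h', ι_invX φ G n i j h',
      Preadditive.comp_add, ← comp_whiskerRight_assoc, ← comp_whiskerRight_assoc]
    simp

lemma inv_hom (n : ℤ) : invX φ G n ≫ (hom φ G).f n = 𝟙 _ := by
  refine mapBifunctor.hom_ext fun i j h => ?_
  have h' : i + j = n := h
  change ιTensorObj (CochainComplex.mappingCone φ) G i j n h' ≫ _ =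
    ιTensorObj (CochainComplex.mappingCone φ) G i j n h' ≫ _
  rw [Category.comp_id, reassoc_of% ι_invX φ G n i j h']
  simp only [Preadditive.add_comp, Category.assoc, hom, inl_v_desc_f, inr_f_desc_f]
  rw [ι_α φ G (n + 1) n (by lia) (i + 1) j (by lia), ι_tensorHom G (inr φ) i j n h',
    ← comp_whiskerRight_assoc, ← comp_whiskerRight_assoc]
  have key : ∀ (b : ℤ) (hb : b = i) (h2 : i + 1 + (-1) = b),
      ((fst φ).1.v i (i + 1) rfl ≫ (inl φ).v (i + 1) b h2) ▷ G.X j ≫
        ιTensorObj (CochainComplex.mappingCone φ) G b j n (by lia) =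
      ((fst φ).1.v i (i + 1) rfl ≫ (inl φ).v (i + 1) i (by lia)) ▷ G.X j ≫
        ιTensorObj (CochainComplex.mappingCone φ) G i j n h' := by
    intro b hb h2
    subst b
    rfl
  rw [key (i + 1 - 1) (by lia) (by lia), ← Preadditive.add_comp,
    ← MonoidalPreadditive.add_whiskerRight, id_X]
  simp

/-- `Cone(φ) ⊗ G ≅ Cone(φ ⊗ G)`. -/
noncomputable def iso : HomologicalComplex.tensorObj (CochainComplex.mappingCone φ) G ≅
    CochainComplex.mappingCone (HomologicalComplex.tensorHom φ (𝟙 G)) :=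
  (HomologicalComplex.Hom.isoOfComponents
    (fun n => ⟨(hom φ G).f n, invX φ G n, hom_inv φ G n, inv_hom φ G n⟩)
    (fun i j _ => (hom φ G).comm i j)).symm

lemma tensorHom_smul (a : A) (K' : CochainComplex (ModuleCat.{u} A) ℤ) :
    HomologicalComplex.tensorHom (a • 𝟙 K') (𝟙 G) = a • 𝟙 (HomologicalComplex.tensorObj K' G) := by
  ext n : 1
  refine mapBifunctor.hom_ext fun i j h => ?_
  change ιTensorObj K' G i j n h ≫ _ = ιTensorObj K' G i j n h ≫ _
  rw [ι_tensorHom G (a • 𝟙 K') i j n h, HomologicalComplex.smul_f_apply,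
    HomologicalComplex.smul_f_apply, HomologicalComplex.id_f, HomologicalComplex.id_f,
    MonoidalLinear.smul_whiskerRight, Linear.smul_comp, Linear.comp_smul]
  simp

end Groth.KoszulTens
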